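import Cfsg.Agent.H81.SU6.Ext.Setting

/-!
# A conjugated root element meeting an isotropic line in rank one gives transvections
-/

set_option autoImplicit false
set_option linter.unusedSectionVars false
set_option linter.unusedSimpArgs false
set_option linter.style.haveILetI false

namespace H81.SU6.Ext

open H50

variable {F E : Type*} [Field F] [Fintype F] [Field E] [Fintype E] [Algebra F E] {q : ℕ}
variable {τ : E →ₗ[F] F} {Mf : ((E × E) →ₗ[F] (E × E)) → Prop} (d : XS q τ Mf)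
include d

local notation "φ" => pf q
local notation "al" => algebraMap F E

/-- The rank one meeting gives transvections. -/
theorem XS.ctr_of_rankOne {g : (E × E) →ₗ[F] (E × E)} (hg : Mf g) {v w : (E × E)} (hv : φ v v = 0) (hw : φ w w = 0) (hw0 : w ≠ 0)
    (hrk : ∀ c : E, ∃ t : F, φ (g (c • v)) w = al t) (hne : ∃ c : E, φ (g (c • v)) w ≠ 0) :
    ∃ n : E × E, n ≠ 0 ∧ φ n n = 0 ∧ Ctr q τ Mf n := by
  have hF := d.cardF
  have hE := d.cardE
  choose tc htc using hrk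
  have inj := (algebraMap F E).injective
  let η : E →ₗ[F] F :=
    { toFun := tc
      map_add' := fun a b => inj (by rw [map_add, ← htc, ← htc, ← htc, add_smul, map_add, d.pf_add_left])
      map_smul' := fun t a => inj (by
        rw [RingHom.id_apply, smul_eq_mul, map_mul, ← htc, ← htc, smul_assoc, map_smul, d.hh_smul_left]) }
  obtain ⟨θ, hθ⟩ := d.dual η
  have hGw : ∀ c, φ (g (c • v)) w = al (τ (c * θ)) := fun c => by rw [hθ]; exact htc c
  have hθ0 : θ ≠ 0 := by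
    rintro rfl
    obtain ⟨c, hc⟩ := hne
    exact hc (by rw [hGw, mul_zero, map_zero, map_zero])
  obtain ⟨g', hg', hgg, hgg'⟩ := d.inv hg
  have e₁ : ∀ x, g' (g x) = x := fun x => LinearMap.congr_fun hgg x
  have e₂ : ∀ x, g (g' x) = x := fun x => LinearMap.congr_fun hgg' x
  -- the coordinate along the conjugated line
  let H : (E × E) →ₗ[F] E :=
    { toFun := fun y => φ y v
      map_add' := fun a b => d.pf_add_left a b v
      map_smul' := fun t a => by rw [RingHom.id_apply, d.hh_smul_left, Algebra.smul_def] }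
  let π : (E × E) →ₗ[F] E := H ∘ₗ g'
  have hπ : ∀ x, π x = φ (g' x) v := fun x => rfl
  have hπG : ∀ c, π (g (c • v)) = 0 := fun c => by rw [hπ, e₁, d.pf_smul_left, hv, mul_zero]
  have hπw : ∀ s, π (s • w) = al (τ s) * θ ^ q ^ 3 := by
    intro s
    refine d.tau_ext fun c => ?_
    have h1 : τ (c * π (s • w)) = τ (φ (s • w) (g (c ^ q ^ 3 • v))) := by
      rw [← e₂ (s • w), d.iso hg, e₂, d.pf_smul_right, pow_q_pow_q hE, hπ]
    rw [h1, d.pf_symm (g (c ^ q ^ 3 • v)) (s • w), d.tau_conj, d.pf_smul_right, hGw, d.tau_mul', mul_pow,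
      ← d.tau_conj (c ^ q ^ 3 * θ), d.tau_conj s, pow_q_pow_q hF, mul_pow, pow_q_pow_q hE,
      show c * (al (τ s) * θ ^ q ^ 3) = al (τ s) * (c * θ ^ q ^ 3) by ring, d.tau_mul]
  -- the commutators
  have hD : ∀ k s : E, k + k ^ q ^ 3 = 0 → s + s ^ q ^ 3 = 0 → τ s = 0 → ∃ f, Mf f ∧ ∀ x,
      f x = x + (τ (k * π x * θ) - τ (s * φ x w) * τ (k * (θ * θ ^ q ^ 3))) • (s • w) -
        τ (s * φ x w) • g ((k * θ ^ q ^ 3) • v) := by
    intro k s hk hs hτs
    obtain ⟨u, hu, hux⟩ := d.etv hv hk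
    obtain ⟨u', hu', hux'⟩ := d.etv hv (k := -k) (by rw [neg_pow_q hE, ← neg_add, hk, neg_zero])
    obtain ⟨t, ht, htx⟩ := d.etv hw hs
    obtain ⟨t', ht', htx'⟩ := d.etv hw (k := -s) (by rw [neg_pow_q hE, ← neg_add, hs, neg_zero])
    refine ⟨(g ∘ₗ u' ∘ₗ g') ∘ₗ t ∘ₗ (g ∘ₗ u ∘ₗ g') ∘ₗ t',
      d.mul (d.mul hg (d.mul hu' hg')) (d.mul ht (d.mul (d.mul hg (d.mul hu hg')) ht')), fun x => ?_⟩
    simp only [LinearMap.comp_apply]
    have hM : ∀ (k : E) (u : (E × E) →ₗ[F] (E × E)), (∀ x, u x = x + (k * φ x v) • v) → ∀ y,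
        g (u (g' y)) = y + g ((k * π y) • v) := fun k u hu y => by rw [hu, map_add, e₂, hπ]
    rw [hM k u hux, hM (-k) u' hux', htx]
    set p := φ x w
    set b := g ((k * θ ^ q ^ 3) • v) with hb
    have hbw : φ b w = al (τ (k * (θ * θ ^ q ^ 3))) := by rw [hb, hGw]; congr 2; ring
    have hπt : π (t' x) = π x - al (τ (s * p)) * θ ^ q ^ 3 := by
      rw [htx', map_add, hπw, neg_mul, map_neg, map_neg]; ring
    have hGt : g ((k * π (t' x)) • v) = g ((k * π x) • v) - τ (s * p) • b := by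
      rw [hπt, mul_sub, sub_smul, map_sub, hb, ← map_smul g, ← smul_assoc (τ (s * p)) (k * θ ^ q ^ 3) v, Algebra.smul_def (τ (s * p)) (k * θ ^ q ^ 3)]
      ring_nf
    rw [hGt]
    have hφt : φ (t' x) w = p := by rw [htx', d.pf_add_left, d.pf_smul_left, hw, mul_zero, add_zero]
    set A := g ((k * π x) • v) with hA
    have hAw : φ A w = al (τ (k * π x * θ)) := by rw [hA, hGw]
    have hmid : φ (t' x + (A - τ (s * p) • b)) w =
        p + (al (τ (k * π x * θ)) - al (τ (s * p) * τ (k * (θ * θ ^ q ^ 3)))) := by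
      rw [d.pf_add_left, d.pf_sub_left, hφt, hAw, d.hh_smul_left, hbw, map_mul (algebraMap F E)]
    rw [hmid]
    set C := τ (k * π x * θ) - τ (s * p) * τ (k * (θ * θ ^ q ^ 3)) with hC
    have hy : t' x + (A - τ (s * p) • b) + (s * (p + (al (τ (k * π x * θ)) -
        al (τ (s * p) * τ (k * (θ * θ ^ q ^ 3)))))) • w = x + C • (s • w) + (A - τ (s * p) • b) := by
      rw [htx', ← map_sub, ← hC, ← algebraMap_smul E C (s • w), smul_smul]
      module
    rw [hy]
    have hπy : π (x + C • (s • w) + (A - τ (s * p) • b)) = π x := by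
      rw [map_add, map_add, map_smul, hπw, hτs, map_sub, hA, hπG, map_smul, hb, hπG]
      simp
    rw [hπy, neg_mul, neg_smul, map_neg, ← hA]
    abel
  have hD2 : ∀ {f : (E × E) →ₗ[F] (E × E)} {k s : E}, τ s = 0 → (∀ x, f x = x + (τ (k * π x * θ) -
      τ (s * φ x w) * τ (k * (θ * θ ^ q ^ 3))) • (s • w) - τ (s * φ x w) • g ((k * θ ^ q ^ 3) • v)) →
      ∀ k' s', τ s' = 0 → ∀ x, τ (k' * π (f x) * θ) = τ (k' * π x * θ) ∧ τ (s' * φ (f x) w) = τ (s' * φ x w) := by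
    intro f k s hs hf k' s' hs' x
    constructor
    · rw [hf, map_sub π, map_add π, map_smul π, map_smul π, hπw, hs, hπG]
      simp
    · rw [hf, d.pf_sub_left, d.pf_add_left, d.hh_smul_left, d.hh_smul_left, d.pf_smul_left, hw, mul_zero, mul_zero,
        add_zero, hGw, ← map_mul, mul_sub, map_sub, d.tau_mul', hs', zero_mul, sub_zero]
  have hsw : ∀ s : E, φ (s • w) (s • w) = 0 := fun s => by rw [d.pf_smul_left, d.pf_smul_right, hw, mul_zero, mul_zero]
  obtain ⟨z, hz0, hz, hτz⟩ := d.exists_fixed_zero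
  obtain ⟨ε, hε0, hε⟩ := exists_trace_zero_ne_zero hF
  obtain ⟨k₀, hk₀, hμ⟩ := d.exists_skew_pairing hθ0
  set μ := τ (k₀ * (θ * θ ^ q ^ 3)) with hμdef
  have hskew : ∀ t : F, t ^ q = t → ∀ {s : E}, s + s ^ q ^ 3 = 0 → al t * s + (al t * s) ^ q ^ 3 = 0 := by
    intro t ht s hs
    rw [mul_pow, d.alg_conj, ht, ← mul_add, hs, mul_zero]
  have hμq : μ ^ q = -μ := by
    rw [hμdef, ← d.tau_conj, mul_pow, mul_pow, pow_q_pow_q hE, eq_neg_of_add_eq_zero_right hk₀, ← map_neg]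
    congr 1; ring
  have hq := d.three
  -- scaling
  obtain ⟨l, hlq, hl0, hl1⟩ : ∃ l : F, l ^ q = l ∧ l ≠ 0 ∧ l ≠ 1 := by
    classical
    have h := card_fixed hF
    rw [Nat.card_eq_fintype_card, Fintype.card_subtype] at h
    obtain ⟨a, ha, b, hb, c, hc, hab, hac, hbc⟩ := Finset.two_lt_card.1
      (show 2 < (Finset.univ.filter fun x : F => x ^ q = x).card by omega)
    simp only [Finset.mem_filter, Finset.mem_univ, true_and] at ha hb hc
    by_cases h1 : a ≠ 0 ∧ a ≠ 1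
    · exact ⟨a, ha, h1⟩
    by_cases h2 : b ≠ 0 ∧ b ≠ 1
    · exact ⟨b, hb, h2⟩
    by_cases h3 : c ≠ 0 ∧ c ≠ 1
    · exact ⟨c, hc, h3⟩
    exfalso
    simp only [not_and, not_not] at h1 h2 h3
    by_cases a0 : a = 0
    · subst a0
      exact hbc (by rw [h2 hab.symm, h3 hac.symm])
    · by_cases b0 : b = 0
      · subst b0; exact hac (by rw [h1 a0, h3 hbc.symm])
      · exact hab (by rw [h1 a0, h2 b0])
  set s := al ε * z with hsdef
  have hs : s + s ^ q ^ 3 = 0 := by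
    rw [hsdef, mul_pow, d.alg_conj, hz, eq_neg_of_add_eq_zero_right hε, map_neg]; ring
  have hτs : τ s = 0 := by rw [hsdef, d.tau_mul, hτz, mul_zero]
  have hs0 : s ≠ 0 := mul_ne_zero (by rwa [Ne, map_eq_zero]) hz0
  refine ⟨s • w, smul_ne_zero hs0 hw0, hsw s, by rw [hsw, map_zero], fun c hc => ?_⟩
  set t := c / ((l ^ 2 - l) * μ) with htdef
  have hden : (l ^ 2 - l) * μ ≠ 0 := mul_ne_zero (by
    rw [show l ^ 2 - l = l * (l - 1) by ring]; exact mul_ne_zero hl0 (sub_ne_zero.2 hl1)) hμ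
  have htq : t ^ q = t := by
    rw [htdef, div_pow, mul_pow, hμq, sub_pow_q hF, ← pow_mul, mul_comm 2, pow_mul, hlq,
      eq_neg_of_add_eq_zero_right hc]
    field_simp
  have hls : al l * s + (al l * s) ^ q ^ 3 = 0 := hskew l hlq hs
  obtain ⟨f₁, hf₁, hfx₁⟩ := hD (al t * k₀) (al l * s) (hskew t htq hk₀) hls (by rw [d.tau_mul, hτs, mul_zero])
  obtain ⟨f₂, hf₂, hfx₂⟩ := hD (al (-(l * t)) * k₀) s (hskew _ (by rw [neg_pow_q hF, mul_pow, hlq, htq]) hk₀) hs hτs
  refine ⟨f₁ ∘ₗ f₂, d.mul hf₁ hf₂, fun x => ?_⟩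
  obtain ⟨e1, e2⟩ := hD2 hτs hfx₂ (al t * k₀) (al l * s) (by rw [d.tau_mul, hτs, mul_zero]) x
  rw [LinearMap.comp_apply, hfx₁, e1, e2, hfx₂]
  have hm : ∀ a : F, τ (al a * k₀ * (θ * θ ^ q ^ 3)) = a * μ := fun a => by rw [mul_assoc, d.tau_mul]
  have ha : ∀ (a : F) (y : E), τ (al a * k₀ * y * θ) = a * τ (k₀ * y * θ) := fun a y => by
    rw [mul_assoc, mul_assoc, d.tau_mul, mul_assoc]
  have hb : ∀ a : F, g ((al a * k₀ * θ ^ q ^ 3) • v) = a • g ((k₀ * θ ^ q ^ 3) • v) := fun a => by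
    rw [← map_smul g, ← smul_assoc a (k₀ * θ ^ q ^ 3) v, Algebra.smul_def a (k₀ * θ ^ q ^ 3), mul_assoc]
  have hl2 : τ (al l * s * φ x w) = l * τ (s * φ x w) := by rw [mul_assoc, d.tau_mul]
  have hl3 : (al l * s) • w = l • (s • w) := by rw [← smul_assoc l s w, Algebra.smul_def l s]
  have hn : φ x (s • w) = -(s * φ x w) := by rw [d.pf_smul_right, eq_neg_of_add_eq_zero_right hs, neg_mul]
  rw [hm, hm, ha, ha, hb, hb, hl2, hl3, hn, map_neg]
  have hct : c = t * ((l ^ 2 - l) * μ) := by rw [htdef, div_mul_cancel₀ _ hden]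
  rw [hct]
  module

end H81.SU6.Ext
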