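import Cfsg.Agent.H81.SU6.Ext.Point
import Cfsg.Agent.H81.SU6.Ext.RankOne

/-!
# An element which is not semilinear gives an isotropic centre
-/

set_option autoImplicit false
set_option linter.unusedSectionVars false
set_option linter.style.haveILetI false

namespace H81.SU6.Ext

open H50

variable {F E : Type*} [Field F] [Fintype F] [Field E] [Fintype E] [Algebra F E] {q : ℕ}
variable {τ : E →ₗ[F] F} {Mf : ((E × E) →ₗ[F] (E × E)) → Prop} (d : XS q τ Mf)
include d

local notation "φ" => pf q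
local notation "al" => algebraMap F E

theorem XS.ctr_of_lineRank {g : (E × E) →ₗ[F] (E × E)} (hg : Mf g) {v w : E × E} (hv : φ v v = 0) (hw : φ w w = 0)
    (hw0 : w ≠ 0) {a : E} (hrk : ∀ c : E, ∃ t : F, φ (g (c • v)) w = al t * a)
    (hne : ∃ c : E, φ (g (c • v)) w ≠ 0) : ∃ n : E × E, n ≠ 0 ∧ φ n n = 0 ∧ Ctr q τ Mf n := by
  have hE := d.cardE
  have ha : a ≠ 0 := by
    rintro rfl
    obtain ⟨c, hc⟩ := hne
    obtain ⟨t, ht⟩ := hrk c
    exact hc (by rw [ht, mul_zero])
  refine d.ctr_of_rankOne hg hv (w := (a⁻¹) ^ q ^ 3 • w) ?_ (smul_ne_zero (pow_ne_zero _ (inv_ne_zero ha)) hw0)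
    (fun c => ?_) ?_
  · rw [d.pf_smul_left, d.pf_smul_right, hw, mul_zero, mul_zero]
  · obtain ⟨t, ht⟩ := hrk c
    exact ⟨t, by rw [d.pf_smul_right, pow_q_pow_q hE, ht]; field_simp⟩
  · obtain ⟨c, hc⟩ := hne
    exact ⟨c, by rw [d.pf_smul_right, pow_q_pow_q hE]; exact mul_ne_zero (inv_ne_zero ha) hc⟩

/-- A map moving an isotropic line off all lines gives an isotropic centre. -/
theorem XS.ctr_of_not_line {g : (E × E) →ₗ[F] (E × E)} (hg : Mf g) {v : E × E} (hv : φ v v = 0)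
    (hnl : ∃ c : E, ∀ e : E, g (c • v) ≠ e • g v) : ∃ n : E × E, n ≠ 0 ∧ φ n n = 0 ∧ Ctr q τ Mf n := by
  classical
  have hE := d.cardE
  have hF := d.cardF
  haveI := d.finite_dim
  obtain ⟨c', hc'⟩ := hnl
  obtain ⟨g', hg', hgg, hgg'⟩ := d.inv hg
  have e₁ : ∀ x, g' (g x) = x := fun x => LinearMap.congr_fun hgg x
  have e₂ : ∀ x, g (g' x) = x := fun x => LinearMap.congr_fun hgg' x
  have hv0 : v ≠ 0 := fun e => hc' 0 (by rw [e, smul_zero, map_zero, smul_zero])
  let G : E →ₗ[F] E × E :=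
    { toFun := fun c => g (c • v)
      map_add' := fun a b => by rw [add_smul, map_add]
      map_smul' := fun t a => by rw [RingHom.id_apply, smul_assoc, map_smul] }
  have hG : ∀ c, G c = g (c • v) := fun c => rfl
  obtain ⟨c₀, hc₀, hw⟩ := d.exists_point G fun a b => by
    rw [hG, hG, d.iso hg, d.pf_smul_left, d.pf_smul_right, hv, mul_zero, mul_zero, map_zero]
  set w := G c₀ with hwdef
  have hw0 : w ≠ 0 := fun e => smul_ne_zero hc₀ hv0 (by
    have := congrArg g' e
    rwa [hwdef, hG, e₁, map_zero] at this)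
  let ν : E →ₗ[F] E :=
    { toFun := fun c => φ (G c) w
      map_add' := fun a b => by rw [map_add, d.pf_add_left]
      map_smul' := fun t a => by rw [RingHom.id_apply, map_smul, d.hh_smul_left, Algebra.smul_def] }
  have hν : ∀ c, ν c = φ (g (c • v)) w := fun c => rfl
  have hν₀ : ν c₀ = 0 := hw
  obtain ⟨c₁, hc₁⟩ : ∃ c, ν c ≠ 0 := by
    by_contra hcon
    simp only [not_exists, not_not] at hcon
    obtain ⟨a₁, ha₁⟩ := d.mem_line hw hw0 (hcon 1)
    obtain ⟨a₂, ha₂⟩ := d.mem_line hw hw0 (hcon c')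
    have h0 : a₁ ≠ 0 := fun e => hv0 (by
      rw [e, zero_smul, hG, one_smul] at ha₁
      have := congrArg g' ha₁
      rwa [e₁, map_zero] at this)
    refine hc' (a₂ / a₁) ?_
    rw [← hG, ha₂, show g v = G 1 by rw [hG, one_smul], ha₁, smul_smul, div_mul_cancel₀ _ h0]
  by_cases hr : ∀ c, ∃ t : F, ν c = al t * ν c₁
  · exact d.ctr_of_lineRank hg hv hw hw0 hr ⟨c₁, hc₁⟩
  simp only [not_forall, not_exists] at hr
  obtain ⟨c₂, hc₂⟩ := hr
  -- the kernel is the line of c₀
  have hker : ∀ c, ν c = 0 → ∃ t : F, c = t • c₀ := by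
    have h2 : 2 ≤ Module.finrank F (LinearMap.range ν) := by
      have hli : LinearIndependent F ![(⟨ν c₂, LinearMap.mem_range_self ν c₂⟩ : LinearMap.range ν),
          ⟨ν c₁, LinearMap.mem_range_self ν c₁⟩] := by
        refine linearIndependent_fin2.2 ⟨fun e => hc₁ (congrArg Subtype.val e), fun t e => hc₂ t ?_⟩
        have := congrArg Subtype.val e
        simp at this
        rw [← Algebra.smul_def, this]
      simpa using hli.fintype_card_le_finrank
    have h3 := LinearMap.finrank_range_add_finrank_ker ν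
    rw [d.rank] at h3
    intro c hc
    have h1 : Module.finrank F (LinearMap.ker ν) = 1 := by
      have : Module.finrank F (LinearMap.ker ν) ≠ 0 := fun e => hc₀ (by
        have hb := Submodule.finrank_eq_zero.1 e
        exact (Submodule.mem_bot F).1 (hb ▸ (hν₀ : c₀ ∈ LinearMap.ker ν)))
      omega
    obtain ⟨t, ht⟩ := exists_smul_eq_of_finrank_eq_one h1
      (x := (⟨c₀, hν₀⟩ : LinearMap.ker ν))
      (fun e => hc₀ (congrArg Subtype.val e)) (⟨c, hc⟩ : LinearMap.ker ν)
    exact ⟨t, (congrArg Subtype.val ht).symm⟩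
  -- the scalar k
  obtain ⟨ε, hε0, hε⟩ := exists_trace_zero_ne_zero hF
  obtain ⟨z, hz0, hz, hzτ⟩ := d.exists_fixed_zero
  have hal : al ε ≠ 0 := by rwa [Ne, map_eq_zero]
  have hN : c₀ * c₀ ^ q ^ 3 ≠ 0 := mul_ne_zero hc₀ (pow_ne_zero _ hc₀)
  set k := al ε * (c₀ * c₀ ^ q ^ 3) / z with hk
  have hk0 : k ≠ 0 := div_ne_zero (mul_ne_zero hal hN) hz0
  have hkk : k + k ^ q ^ 3 = 0 := by
    rw [hk, div_pow, mul_pow, mul_pow, hz, pow_q_pow_q hE, d.alg_conj, eq_neg_of_add_eq_zero_right hε, map_neg]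
    ring
  have hp₀ : τ (c₀ ^ q ^ 3 * (c₀ / k)) = 0 := by
    have h0 : c₀ ^ q ^ 3 * (c₀ / k) = al ε⁻¹ * z := by
      rw [hk, map_inv₀]; field_simp
    rw [h0, d.tau_mul, hzτ, mul_zero]
  -- the conjugated root element
  obtain ⟨u, hu, hux⟩ := d.etv hv hkk
  let π : E → E := fun e => φ (g' (e • w)) v
  have hπ : ∀ e c, τ (c ^ q ^ 3 * π e) = τ (e * ν c ^ q ^ 3) := by
    intro e c
    show τ (c ^ q ^ 3 * φ (g' (e • w)) v) = τ (e * φ (g (c • v)) w ^ q ^ 3)
    rw [← d.pf_smul_right, ← d.iso hg, e₂, d.pf_smul_left, d.pf_symm (g (c • v)) w]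
  set g₂ := g ∘ₗ u ∘ₗ g' with hg₂
  have hg₂x : ∀ e, φ (g₂ (e • w)) w = ν (k * π e) := fun e => by
    rw [show g₂ (e • w) = g (u (g' (e • w))) from rfl, hux, map_add, e₂, d.pf_add_left, d.pf_smul_left, hw,
      mul_zero, zero_add]
    rfl
  -- the plane of the values of π
  let μ : E →ₗ[F] F := τ ∘ₗ LinearMap.mulLeft F (c₀ ^ q ^ 3)
  have hμ : ∀ p, μ p = τ (c₀ ^ q ^ 3 * p) := fun p => rfl
  have hπP : ∀ e, π e ∈ LinearMap.ker μ := fun e => by
    show τ (c₀ ^ q ^ 3 * π e) = 0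
    rw [hπ, hν₀, zero_pow (q_ne_zero hE), mul_zero, map_zero]
  let R : LinearMap.ker μ →ₗ[F] E := ν ∘ₗ LinearMap.mulLeft F k ∘ₗ (LinearMap.ker μ).subtype
  have hP : Module.finrank F (LinearMap.ker μ) ≤ 2 := by
    have h := LinearMap.finrank_range_add_finrank_ker μ
    rw [d.rank] at h
    have : LinearMap.range μ ≠ ⊥ := fun e => d.nz (LinearMap.ext fun x => by
      have : μ (x / c₀ ^ q ^ 3) = 0 := (Submodule.mem_bot F).1 (e ▸ LinearMap.mem_range_self μ _)
      rwa [hμ, mul_div_cancel₀ _ (pow_ne_zero _ hc₀)] at this)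
    have := Submodule.one_le_finrank_iff.2 this
    omega
  have hR : Module.finrank F (LinearMap.range R) ≤ 1 := by
    have h := LinearMap.finrank_range_add_finrank_ker R
    have : LinearMap.ker R ≠ ⊥ := fun e => by
      have hp : c₀ / k ∈ LinearMap.ker μ := hp₀
      have : (⟨c₀ / k, hp⟩ : LinearMap.ker μ) ∈ LinearMap.ker R := by
        show ν (k * (c₀ / k)) = 0
        rw [mul_div_cancel₀ _ hk0, hν₀]
      rw [e, Submodule.mem_bot] at this
      exact div_ne_zero hc₀ hk0 (congrArg Subtype.val this)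
    have := Submodule.one_le_finrank_iff.2 this
    omega
  have hval : ∀ e, ν (k * π e) ∈ LinearMap.range R := fun e => ⟨⟨π e, hπP e⟩, rfl⟩
  obtain ⟨e₀, he₀⟩ : ∃ e, ν (k * π e) ≠ 0 := by
    by_contra hcon
    simp only [not_exists, not_not] at hcon
    have hline : ∀ e, ∃ t : F, π e = t • (c₀ / k) := fun e => by
      obtain ⟨t, ht⟩ := hker _ (hcon e)
      exact ⟨t, mul_left_cancel₀ hk0 (by rw [ht, mul_smul_comm, mul_div_cancel₀ _ hk0])⟩
    let ψ : E →ₗ[F] F := τ ∘ₗ LinearMap.mulRight F (c₀ / k)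
    have hle : LinearMap.ker ψ ≤ F ∙ c₀ ^ q ^ 3 := by
      intro y hy
      have h0 : ν (y ^ q ^ 3) = 0 := by
        refine (pow_q_eq_zero hE).1 (d.tau_ext fun e => ?_)
        rw [mul_zero, map_zero, ← hπ, pow_q_pow_q hE]
        obtain ⟨t, ht⟩ := hline e
        rw [ht, mul_smul_comm, map_smul, show τ (y * (c₀ / k)) = 0 from hy, smul_zero]
      obtain ⟨t, ht⟩ := hker _ h0
      refine Submodule.mem_span_singleton.2 ⟨t ^ q, ?_⟩
      rw [← pow_q_pow_q hE y, ht, Algebra.smul_def, Algebra.smul_def, mul_pow, d.alg_conj]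
    have h := LinearMap.finrank_range_add_finrank_ker ψ
    have h1 := Submodule.finrank_le (LinearMap.range ψ)
    have h2 := (Submodule.finrank_mono hle).trans
      (finrank_span_singleton (K := F) (pow_ne_zero (q ^ 3) hc₀)).le
    rw [Module.finrank_self] at h1
    rw [d.rank] at h
    omega
  refine d.ctr_of_lineRank (d.mul hg (d.mul hu hg')) hw hw hw0 (a := ν (k * π e₀)) (fun e => ?_)
    ⟨e₀, by rw [← hg₂, hg₂x]; exact he₀⟩
  obtain ⟨t, ht⟩ := exists_smul_eq_of_finrank_eq_one (K := F)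
    (le_antisymm hR (Submodule.one_le_finrank_iff.2 fun h => he₀ ((Submodule.mem_bot F).1 (h ▸ hval e₀))))
    (x := (⟨_, hval e₀⟩ : LinearMap.range R)) (fun h => he₀ (congrArg Subtype.val h)) ⟨_, hval e⟩
  refine ⟨t, ?_⟩
  rw [← hg₂, hg₂x, ← Algebra.smul_def]
  exact (congrArg Subtype.val ht).symm

/-- A map sending isotropic lines to lines is semilinear. -/
theorem XS.semilinear_of_lines {g : (E × E) →ₗ[F] (E × E)} (hg : Mf g)
    (h : ∀ v : E × E, φ v v = 0 → ∀ c : E, ∃ e : E, g (c • v) = e • g v) :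
    ∀ c : E, ∃ e : E, ∀ x, g (c • x) = e • g x := by
  classical
  have hE := d.cardE
  obtain ⟨g', -, hgg, -⟩ := d.inv hg
  have ginj : Function.Injective g := Function.LeftInverse.injective (g := g') fun x => LinearMap.congr_fun hgg x
  set v₁ : E × E := (1, 0) with hv₁
  set v₂ : E × E := (0, 1) with hv₂
  have i₁ : φ v₁ v₁ = 0 := by simp [pf, hv₁, zero_pow (q_ne_zero hE)]
  have i₂ : φ v₂ v₂ = 0 := by simp [pf, hv₂, zero_pow (q_ne_zero hE)]
  choose α hα using h v₁ i₁
  choose β hβ using h v₂ i₂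
  have hv₁0 : v₁ ≠ 0 := by simp [hv₁, Prod.ext_iff]
  have hv₂0 : v₂ ≠ 0 := by simp [hv₂, Prod.ext_iff]
  have hg1 : g v₁ ≠ 0 := fun e => hv₁0 (ginj (e.trans (map_zero g).symm))
  have hg2 : g v₂ ≠ 0 := fun e => hv₂0 (ginj (e.trans (map_zero g).symm))
  -- the images of the two lines are independent
  have indep : ∀ a b : E, a • g v₁ + b • g v₂ = 0 → a = 0 ∧ b = 0 := by
    intro a b hab
    by_cases hb : b = 0
    · rw [hb, zero_smul, add_zero, smul_eq_zero] at hab
      exact ⟨hab.resolve_right hg1, hb⟩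
    exfalso
    have hgv : g v₂ = (-b⁻¹ * a) • g v₁ := by
      rw [mul_smul, eq_neg_of_add_eq_zero_left hab, smul_neg, neg_smul, neg_neg, inv_smul_smul₀ hb]
    haveI := d.finite_dim
    let L : E →ₗ[F] E :=
      { toFun := α
        map_add' := fun x y => smul_left_injective E hg1 (by
          show α (x + y) • g v₁ = (α x + α y) • g v₁
          rw [add_smul, ← hα, ← hα, ← hα, add_smul, map_add])
        map_smul' := fun t x => smul_left_injective E hg1 (by
          show α (t • x) • g v₁ = (t • α x) • g v₁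
          rw [smul_assoc, ← hα, ← hα, smul_assoc, map_smul]) }
    have hLi : Function.Injective L := fun x y e => smul_left_injective E hv₁0 (ginj (by
      show g (x • v₁) = g (y • v₁)
      rw [hα, hα, show α x = α y from e]))
    obtain ⟨x, hx⟩ := LinearMap.injective_iff_surjective.1 hLi (-b⁻¹ * a)
    have := ginj (((hα x).trans (congrArg (· • g v₁) hx)).trans hgv.symm)
    have := congrArg Prod.snd this
    simp [hv₁, hv₂] at this
  obtain ⟨ε, hε0, hε⟩ := exists_trace_zero_ne_zero d.cardF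
  set k₀ := al ε with hk₀def
  have hk0 : k₀ ≠ 0 := by rwa [hk₀def, Ne, map_eq_zero]
  have hk₀ : k₀ + k₀ ^ q ^ 3 = 0 := by rw [hk₀def, d.alg_conj, ← map_add, hε, map_zero]
  have hiso : ∀ k : E, k + k ^ q ^ 3 = 0 → φ (v₁ + k • v₂) (v₁ + k • v₂) = 0 := fun k hk => by
    simp [pf, hv₁, hv₂, eq_neg_of_add_eq_zero_right hk]
  have rel : ∀ (c k : E), k + k ^ q ^ 3 = 0 → β (c * k) = α c * β k := by
    intro c k hk
    obtain ⟨e, he⟩ := h _ (hiso k hk) c
    rw [smul_add, smul_smul, map_add, hα, hβ, map_add, hβ k, smul_add, smul_smul] at he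
    have := indep (α c - e) (β (c * k) - e * β k) (by linear_combination (norm := module) he)
    rw [sub_eq_zero, sub_eq_zero] at this
    rw [this.2, this.1]
  have hβα : ∀ x, β x = α (x / k₀) * β k₀ := fun x => by rw [← rel _ _ hk₀, div_mul_cancel₀ _ hk0]
  have hb0 : β k₀ ≠ 0 := fun e => by
    have := hβ k₀
    rw [e, zero_smul, ← map_zero g] at this
    exact smul_ne_zero hk0 hv₂0 (ginj this)
  have hmul : ∀ c x, α (c * x) = α c * α x := by
    intro c
    have hfix : ∀ r : E, r ^ q ^ 3 = r → α (c * r) = α c * α r := by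
      intro r hr
      have hk : r * k₀ + (r * k₀) ^ q ^ 3 = 0 := by rw [mul_pow, hr, ← mul_add, hk₀, mul_zero]
      have h1 := rel c (r * k₀) hk
      rw [hβα, hβα (r * k₀), ← mul_assoc c, mul_div_cancel_right₀ _ hk0, mul_div_cancel_right₀ _ hk0] at h1
      refine mul_right_cancel₀ hb0 ?_
      rw [h1, mul_assoc]
    have hadd : ∀ x y, α (x + y) = α x + α y := fun x y => smul_left_injective E hg1 (by
      show α (x + y) • g v₁ = (α x + α y) • g v₁
      rw [add_smul, ← hα, ← hα, ← hα, add_smul, map_add])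
    have hsm : ∀ (t : F) x, α (t • x) = t • α x := fun t x => smul_left_injective E hg1 (by
      show α (t • x) • g v₁ = (t • α x) • g v₁
      rw [smul_assoc, ← hα, ← hα, smul_assoc, map_smul])
    intro x
    obtain ⟨t, a, b, ha, hb, rfl⟩ := d.fixed_decomp x
    rw [← Algebra.smul_def, mul_add, mul_smul_comm, hadd, hadd, hsm, hsm, hfix a ha, hfix b hb, mul_add,
      mul_smul_comm]
  intro c
  refine ⟨α c, fun x => ?_⟩
  have hx : x = x.1 • v₁ + x.2 • v₂ := by simp [hv₁, hv₂, Prod.ext_iff]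
  rw [hx, smul_add, smul_smul, smul_smul, map_add, map_add, hα, hβ, hα x.1, hβ x.2, hmul, hβα (c * x.2), hβα x.2,
    mul_div_assoc, hmul, smul_add, smul_smul, smul_smul, mul_assoc]

end H81.SU6.Ext
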