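import Cfsg.Agent.H81.SU6.Ext.Cases

/-!
# All vectors of trace norm zero are centres
-/

set_option autoImplicit false
set_option linter.unusedSectionVars false
set_option linter.style.haveILetI false

namespace H81.SU6.Ext

open H50

variable {F E : Type*} [Field F] [Fintype F] [Field E] [Fintype E] [Algebra F E] {q : ℕ}
variable {τ : E →ₗ[F] F} {Mf : ((E × E) →ₗ[F] (E × E)) → Prop} (d : XS q τ Mf)
include d

local notation "φ" => pf q
local notation "al" => algebraMap F E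

/-- A non-zero isotropic vector moves to the first axis. -/
theorem XS.to_axis {x : E × E} (hx : φ x x = 0) (hx0 : x ≠ 0) :
    ∃ f, Mf f ∧ ∃ α : E, α ≠ 0 ∧ f x = (α, 0) := by
  have hE := d.cardE
  have h0 : (0 : E) ^ q ^ 3 = 0 := zero_pow (q_ne_zero hE)
  have hx' : x.1 * x.2 ^ q ^ 3 + x.2 * x.1 ^ q ^ 3 = 0 := hx
  by_cases h1 : x.1 = 0
  · have h2 : x.2 ≠ 0 := fun e => hx0 (Prod.ext h1 e)
    obtain ⟨ε, hε0, hε⟩ := exists_trace_zero_ne_zero d.cardF
    have he : al ε ≠ 0 := by rwa [Ne, map_eq_zero]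
    have hk : al ε + al ε ^ q ^ 3 = 0 := by rw [d.alg_conj, ← map_add, hε, map_zero]
    have hk' : -(al ε)⁻¹ + (-(al ε)⁻¹) ^ q ^ 3 = 0 := by
      rw [neg_pow_q hE, inv_pow, eq_neg_of_add_eq_zero_right hk, inv_neg]; ring
    obtain ⟨f, hf, hfx⟩ := d.lin 0 (al ε) (-(al ε)⁻¹) 0 h0 h0 hk hk' (by field_simp; ring)
    exact ⟨f, hf, al ε * x.2, mul_ne_zero he h2, by rw [hfx, h1]; simp⟩
  · have hu : -(x.2 / x.1) + (-(x.2 / x.1)) ^ q ^ 3 = 0 := by
      rw [neg_pow_q hE, div_pow, ← neg_add, neg_eq_zero, div_add_div _ _ h1 (pow_ne_zero _ h1)]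
      rw [div_eq_zero_iff]
      exact Or.inl (by linear_combination hx')
    obtain ⟨f, hf, hfx⟩ := d.lin 1 0 (-(x.2 / x.1)) 1 (one_pow _) (one_pow _) (by simp [h0]) hu (by ring)
    refine ⟨f, hf, x.1, h1, ?_⟩
    rw [hfx]
    refine Prod.ext (by simp) ?_
    show -(x.2 / x.1) * x.1 + 1 * x.2 = 0
    rw [neg_mul, div_mul_cancel₀ _ h1]; ring

/-- A centre transvected by a centre. -/
theorem XS.ctr_trans {x y : E × E} (hx : Ctr q τ Mf x) (hy : Ctr q τ Mf y) {c : F} (hc : c + c ^ q = 0) :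
    Ctr q τ Mf (x + (c * τ (φ x y)) • y) := by
  obtain ⟨t, ht, htx⟩ := hy.2 c hc
  have := d.ctr_mv ht hx
  rwa [htx] at this

theorem XS.norm_add_smul (x y : E × E) (t : F) :
    φ (x + t • y) (x + t • y) =
      φ x x + al t ^ q ^ 3 * φ x y + (al t * φ x y ^ q ^ 3 + al t * al t ^ q ^ 3 * φ y y) := by
  rw [d.pf_add_left, d.pf_add_right, d.pf_add_right, d.hh_smul_left, d.hh_smul_left, d.hh_smul_right,
    d.hh_smul_right, d.pf_symm x y]
  ring

/-- One isotropic centre gives an anisotropic one. -/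
theorem XS.ctr_aniso {n : E × E} (hn : φ n n = 0) (hn0 : n ≠ 0) (hctr : Ctr q τ Mf n) :
    ∃ x, φ x x ≠ 0 ∧ Ctr q τ Mf x := by
  classical
  have hE := d.cardE
  have hF := d.cardF
  have h0 : (0 : E) ^ q ^ 3 = 0 := zero_pow (q_ne_zero hE)
  obtain ⟨f, hf, α, hα, hfn⟩ := d.to_axis hn hn0
  have cu := d.ctr_mv hf hctr
  rw [hfn] at cu
  -- an element of the torus which is not in the real subgroup
  obtain ⟨u, hu⟩ := IsCyclic.exists_ofOrder_eq_natCard (α := Eˣ)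
  rw [Nat.card_units, Nat.card_eq_fintype_card, hE] at hu
  set y : E := (u : E) with hy
  have hy0 : y ≠ 0 := u.ne_zero
  obtain ⟨D, hD, hDx⟩ := d.dia y hy0
  set a : E := y ^ (q + 1) with ha
  have ha0 : a ≠ 0 := pow_ne_zero _ hy0
  have hnot : ∀ t : F, a ^ q ^ 3 ≠ al t * a := by
    intro t h
    have hq := d.three
    have ht : t ≠ 0 := fun e => pow_ne_zero (q ^ 3) ha0 (by rw [h, e, map_zero, zero_mul])
    have htE : al t ^ (q + 1) = 1 := by
      have h1 : a = al t ^ (q ^ 3 + 1) * a := by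
        calc a = (a ^ q ^ 3) ^ q ^ 3 := (pow_q_pow_q hE a).symm
          _ = _ := by rw [h, mul_pow, h, pow_succ]; ring
      have h2 : al t ^ (q ^ 3 + 1) = 1 := mul_right_cancel₀ ha0 (by rw [← h1, one_mul])
      rw [pow_succ, d.alg_conj] at h2
      rw [← h2, pow_succ, ← map_pow]
    have h3 : y ^ ((q + 1) * (q + 1) * q ^ 3) = y ^ ((q + 1) * (q + 1)) := by
      rw [pow_mul y (q + 1) (q + 1), ← ha]
      calc y ^ ((q + 1) * (q + 1) * q ^ 3) = (a ^ q ^ 3) ^ (q + 1) := by rw [ha, ← pow_mul, ← pow_mul]; ring_nf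
        _ = _ := by rw [h, mul_pow, htE, one_mul]
    rw [hy, ← Units.val_pow_eq_pow_val, ← Units.val_pow_eq_pow_val] at h3
    have hu3 := pow_eq_pow_iff_modEq.1 (Units.ext h3)
    rw [hu] at hu3
    have h6 : (q + 1) * (q + 1) * q ^ 3 < (q ^ 3) ^ 2 - 1 := by
      have h4 : (q + 1) * (q + 1) + 1 ≤ q ^ 3 := by nlinarith [Nat.mul_le_mul hq hq]
      have h5 := Nat.mul_le_mul_right (q ^ 3) h4
      have h7 : 1 < q ^ 3 := by nlinarith
      rw [show (q ^ 3) ^ 2 = q ^ 3 * q ^ 3 by ring]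
      rw [add_mul, one_mul] at h5
      omega
    have h8 : (q + 1) * (q + 1) < (q + 1) * (q + 1) * q ^ 3 :=
      lt_mul_of_one_lt_right (by positivity) (by nlinarith)
    have := Nat.ModEq.eq_of_lt_of_lt hu3 h6 (lt_trans h8 h6)
    omega
  -- the skew element
  obtain ⟨r, hr, hτr⟩ : ∃ r : E, r ^ q ^ 3 = r ∧ τ (r * (α * α ^ q ^ 3 * a ^ q ^ 3)) ≠ 0 := by
    by_contra hcon
    simp only [not_exists, not_and, not_not] at hcon
    have hS := d.fixed_span (LinearMap.ker (τ ∘ₗ LinearMap.mulRight F (α * α ^ q ^ 3 * a ^ q ^ 3))) hcon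
    refine mul_ne_zero (mul_ne_zero hα (pow_ne_zero (q ^ 3) hα)) (pow_ne_zero (q ^ 3) ha0) (d.tau_ext fun c => ?_)
    rw [mul_zero, map_zero]
    exact (hS.ge (Submodule.mem_top (x := c)))
  obtain ⟨ε, hε0, hε⟩ := exists_trace_zero_ne_zero hF
  set k := al ε * r with hk
  have hk' : k ^ q ^ 3 = -k := by
    rw [hk, mul_pow, hr, d.alg_conj, eq_neg_of_add_eq_zero_right hε, map_neg, neg_mul]
  clear_value k
  obtain ⟨T, hT, hTx⟩ := d.lin 1 0 k 1 (one_pow _) (one_pow _) (by simp [h0]) (by rw [hk', add_neg_cancel]) (by ring)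
  have cw := d.ctr_mv hT (d.ctr_mv hD cu)
  have hw : T (D ((α, 0) : E × E)) = (a * α, k * (a * α)) := by
    rw [hDx, hTx]; simp [ha]
  rw [hw] at cw
  set b : E := φ (α, 0) (a * α, k * (a * α)) with hb
  have hb' : b = -(k * (α * α ^ q ^ 3 * a ^ q ^ 3)) := by
    simp only [hb, pf, mul_pow, hk', zero_mul, add_zero]; ring
  set s := τ b with hs
  have hs0 : s ≠ 0 := by
    rw [hs, hb', map_neg, neg_ne_zero, hk, mul_assoc, d.tau_mul]
    exact mul_ne_zero hε0 hτr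
  have hcx := d.ctr_trans cu cw hε
  refine ⟨_, fun h => ?_, hcx⟩
  rw [d.norm_add_smul, ← hb, ← hs] at h
  have n1 : φ ((α, 0) : E × E) (α, 0) = 0 := by simp [pf, h0]
  have n2 : φ (a * α, k * (a * α)) (a * α, k * (a * α)) = 0 := by
    simp only [pf, mul_pow, hk']; ring
  rw [n1, n2, mul_zero, zero_add, add_zero, d.alg_conj, mul_pow ε, eq_neg_of_add_eq_zero_right hε] at h
  simp only [map_mul, map_neg, neg_mul, map_pow] at h
  have hεE : al ε ≠ 0 := by rwa [Ne, map_eq_zero]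
  have h1 : al s * b ^ q ^ 3 = al s ^ q * b := mul_left_cancel₀ hεE (by linear_combination h)
  apply hnot (-(s / s ^ q))
  rw [hb', neg_pow_q hE, mul_pow, mul_pow, mul_pow, hk', pow_q_pow_q hE, pow_q_pow_q hE] at h1
  have hne : k * (α * α ^ q ^ 3) ≠ 0 := by
    have hr0 : r ≠ 0 := fun e => hτr (by rw [e, zero_mul, map_zero])
    rw [hk]
    exact mul_ne_zero (mul_ne_zero hεE hr0) (mul_ne_zero hα (pow_ne_zero _ hα))
  have h2 : al s * a + al s ^ q * a ^ q ^ 3 = 0 :=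
    mul_left_cancel₀ hne (by linear_combination h1)
  rw [map_neg, map_div₀, map_pow, neg_mul, div_mul_eq_mul_div, ← neg_div, eq_div_iff (pow_ne_zero _ (by rwa [Ne, map_eq_zero]))]
  linear_combination h2

/-- The special group is transitive on vectors of a given non-zero norm. -/
theorem XS.ctr_move {x y : E × E} (h : φ x x = φ y y) (hxx : φ x x ≠ 0) (hx : Ctr q τ Mf x) :
    Ctr q τ Mf y := by
  have hE := d.cardE
  set a := φ x x with ha
  have haq : a ^ q ^ 3 = a := d.pf_self_fixed x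
  set p := (y.1 * x.2 ^ q ^ 3 + x.2 * y.1 ^ q ^ 3) / a with hp
  set r := (y.1 * x.1 ^ q ^ 3 - x.1 * y.1 ^ q ^ 3) / a with hr
  set u := (y.2 * x.2 ^ q ^ 3 - x.2 * y.2 ^ q ^ 3) / a with hu
  set s := (y.2 * x.1 ^ q ^ 3 + x.1 * y.2 ^ q ^ 3) / a with hs
  have hpq : p ^ q ^ 3 = p := by
    rw [hp, div_pow, add_pow_q hE, mul_pow, mul_pow, pow_q_pow_q hE, pow_q_pow_q hE, haq]; ring
  have hsq : s ^ q ^ 3 = s := by
    rw [hs, div_pow, add_pow_q hE, mul_pow, mul_pow, pow_q_pow_q hE, pow_q_pow_q hE, haq]; ring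
  have hrq : r + r ^ q ^ 3 = 0 := by
    rw [hr, div_pow, sub_pow_q hE, mul_pow, mul_pow, pow_q_pow_q hE, pow_q_pow_q hE, haq]; ring
  have huq : u + u ^ q ^ 3 = 0 := by
    rw [hu, div_pow, sub_pow_q hE, mul_pow, mul_pow, pow_q_pow_q hE, pow_q_pow_q hE, haq]; ring
  have hax : a = x.1 * x.2 ^ q ^ 3 + x.2 * x.1 ^ q ^ 3 := rfl
  have hay : a = y.1 * y.2 ^ q ^ 3 + y.2 * y.1 ^ q ^ 3 := h
  have hdet : p * s - r * u = 1 := by
    have : (p * a) * (s * a) - (r * a) * (u * a) = a * a := by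
      rw [hp, hs, hr, hu, div_mul_cancel₀ _ hxx, div_mul_cancel₀ _ hxx, div_mul_cancel₀ _ hxx, div_mul_cancel₀ _ hxx]
      linear_combination -(y.1 * y.2 ^ q ^ 3 + y.2 * y.1 ^ q ^ 3) * hax - a * hay
    refine mul_right_cancel₀ (mul_ne_zero hxx hxx) ?_
    linear_combination this
  obtain ⟨f, hf, hfx⟩ := d.lin p r u s hpq hsq hrq huq hdet
  have := d.ctr_mv hf hx
  have e : f x = y := by
    rw [hfx]
    refine Prod.ext (mul_right_cancel₀ hxx ?_) (mul_right_cancel₀ hxx ?_)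
    · show (p * x.1 + r * x.2) * a = y.1 * a
      rw [add_mul, mul_right_comm, mul_right_comm r, hp, hr, div_mul_cancel₀ _ hxx, div_mul_cancel₀ _ hxx]
      linear_combination -y.1 * hax
    · show (u * x.1 + s * x.2) * a = y.2 * a
      rw [add_mul, mul_right_comm, mul_right_comm s, hu, hs, div_mul_cancel₀ _ hxx, div_mul_cancel₀ _ hxx]
      linear_combination -y.2 * hax
  rwa [e] at this

/-- All singular anisotropic vectors are centres. -/
theorem XS.ctr_of_aniso {x : E × E} (hxx : φ x x ≠ 0) (hx : Ctr q τ Mf x) {z : E × E} (hzz : φ z z ≠ 0)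
    (hz : τ (φ z z) = 0) : Ctr q τ Mf z := by
  have hE := d.cardE
  have hF := d.cardF
  obtain ⟨c, hc0, hc⟩ := exists_trace_zero_ne_zero hF
  have hcq : c ^ q = -c := eq_neg_of_add_eq_zero_right hc
  set a₁ := φ x x with ha₁
  set a := φ z z with ha
  have ha₁q : a₁ ^ q ^ 3 = a₁ := d.pf_self_fixed x
  have haq : a ^ q ^ 3 = a := d.pf_self_fixed z
  have hcE : al c ≠ 0 := by rwa [Ne, map_eq_zero]
  set a' := (a - a₁ + al c * al c * a₁) / al c with ha'
  have ha'q : a' ^ q ^ 3 = -a' := by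
    rw [ha', div_pow, add_pow_q hE, sub_pow_q hE, mul_pow, mul_pow, haq, ha₁q, d.alg_conj, hcq, map_neg]; ring
  have hτa' : τ a' = 0 := by
    rw [ha', div_eq_inv_mul, ← map_inv₀, d.tau_mul, map_add, map_sub, hz, hx.1, mul_assoc, d.tau_mul, d.tau_mul,
      hx.1]
    ring
  obtain ⟨z₀, hz₀⟩ := d.exists_half
  obtain ⟨k, hk, hk1⟩ := d.exists_fixed_one
  set b₀ := -a' * z₀ with hb₀
  have hb₀' : b₀ ^ q ^ 3 - b₀ = a' := by
    rw [hb₀, mul_pow, neg_pow_q hE, ha'q]; linear_combination a' * hz₀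
  have hτb₀ : τ b₀ ^ q = τ b₀ := by
    have h1 := congrArg τ hb₀'
    rw [map_sub, d.tau_conj, hτa', sub_eq_zero] at h1
    exact h1
  clear_value b₀
  set b := b₀ + al (1 - τ b₀) * k with hb
  have hb1 : τ b = 1 := by rw [hb, map_add, d.tau_mul, hk1, mul_one, add_sub_cancel]
  have hb' : b ^ q ^ 3 - b = a' := by
    rw [hb, add_pow_q hE, mul_pow, hk, d.alg_conj, sub_pow_q hF, one_pow, hτb₀]
    linear_combination hb₀'
  -- the partner
  have hx' : a₁ = x.1 * x.2 ^ q ^ 3 + x.2 * x.1 ^ q ^ 3 := rfl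
  have hx1 : x.1 ≠ 0 := fun e => hxx (by rw [hx', e, zero_pow (q_ne_zero hE)]; ring)
  have hx2 : x.2 ≠ 0 := fun e => hxx (by rw [hx', e, zero_pow (q_ne_zero hE)]; ring)
  have hx1' : x.1 ^ q ^ 3 ≠ 0 := pow_ne_zero _ hx1
  have hx2' : x.2 ^ q ^ 3 ≠ 0 := pow_ne_zero _ hx2
  set m : E × E := ((x.2 ^ q ^ 3)⁻¹, -(x.1 ^ q ^ 3)⁻¹) with hm
  have hmx : φ m x = 0 := by
    simp only [hm, pf]
    field_simp
    ring
  have hmm : φ m m ≠ 0 := by
    have : φ m m = -a₁ * (x.1 * x.1 ^ q ^ 3 * (x.2 * x.2 ^ q ^ 3))⁻¹ := by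
      simp only [hm, pf, neg_pow_q hE, inv_pow, pow_q_pow_q hE, hx']
      field_simp
      ring
    rw [this]
    exact mul_ne_zero (neg_ne_zero.2 hxx) (inv_ne_zero (mul_ne_zero (mul_ne_zero hx1 hx1') (mul_ne_zero hx2 hx2')))
  obtain ⟨μ, hμ⟩ := exists_norm_eq hE (c := (a₁ - b * b ^ q ^ 3 / a₁) / φ m m) (by
    rw [div_pow, sub_pow_q hE, div_pow, mul_pow, pow_q_pow_q hE, ha₁q, d.pf_self_fixed, mul_comm b])
  rw [pow_succ] at hμ
  set w := (b ^ q ^ 3 / a₁) • x + μ • m with hw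
  have hxw : φ x w = b := by
    rw [hw, d.pf_add_right, d.pf_smul_right, d.pf_smul_right, d.pf_symm m x, hmx, zero_pow (q_ne_zero hE), mul_zero,
      add_zero, div_pow, pow_q_pow_q hE, ha₁q, ← ha₁, div_mul_cancel₀ _ hxx]
  have hww : φ w w = a₁ := by
    rw [hw, d.pf_add_left, d.pf_add_right, d.pf_add_right, d.pf_smul_left, d.pf_smul_left, d.pf_smul_left,
      d.pf_smul_left, d.pf_smul_right, d.pf_smul_right, d.pf_smul_right, d.pf_smul_right, ← ha₁, hmx,
      d.pf_symm m x, hmx, zero_pow (q_ne_zero hE), div_pow, pow_q_pow_q hE, ha₁q]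
    field_simp at hμ ⊢
    linear_combination hμ
  have hcx := d.ctr_trans hx (d.ctr_move hww.symm hxx hx) hc
  rw [hxw, hb1, mul_one] at hcx
  refine d.ctr_move ?_ ?_ hcx <;> rw [d.norm_add_smul, hxw, ← ha₁, hww, d.alg_conj, hcq, map_neg]
  · have : al c * a' = a - a₁ + al c * al c * a₁ := by rw [ha', mul_div_cancel₀ _ hcE]
    linear_combination al c * hb' + this
  · have : al c * a' = a - a₁ + al c * al c * a₁ := by rw [ha', mul_div_cancel₀ _ hcE]
    intro h0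
    exact hzz (by linear_combination h0 - al c * hb' - this)

/-- All vectors of trace norm zero are centres. -/
theorem XS.ctr_all {g : (E × E) →ₗ[F] (E × E)} (hg : Mf g) (hne : ¬ ∀ c : E, ∃ e : E, ∀ x, g (c • x) = e • g x) :
    ∀ x, τ (φ x x) = 0 → Ctr q τ Mf x := by
  classical
  have hE := d.cardE
  have hF := d.cardF
  have h0 : (0 : E) ^ q ^ 3 = 0 := zero_pow (q_ne_zero hE)
  obtain ⟨v, hv, hnl⟩ : ∃ v : E × E, φ v v = 0 ∧ ∃ c : E, ∀ e : E, g (c • v) ≠ e • g v := by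
    by_contra hcon
    simp only [not_exists, not_and, not_forall, not_not] at hcon
    exact hne (d.semilinear_of_lines hg hcon)
  obtain ⟨n, hn0, hn, hctr⟩ := d.ctr_of_not_line hg hv hnl
  obtain ⟨x₁, hx₁, hctr₁⟩ := d.ctr_aniso hn hn0 hctr
  intro x hx
  by_cases hxx : φ x x = 0
  · rcases eq_or_ne x 0 with rfl | hx0
    · exact ⟨hx, fun c _ => ⟨_, d.one, fun y => by simp⟩⟩
    obtain ⟨f, hf, α, hα, hfx⟩ := d.to_axis hxx hx0
    suffices Ctr q τ Mf ((α, 0) : E × E) by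
      obtain ⟨f', hf', h1, -⟩ := d.inv hf
      have h2 := d.ctr_mv hf' this
      rw [← hfx] at h2
      rwa [show f' (f x) = x from LinearMap.congr_fun h1 x] at h2
    obtain ⟨c, hc0, hc⟩ := exists_trace_zero_ne_zero hF
    obtain ⟨k, hk, hk1⟩ := d.exists_fixed_one
    obtain ⟨z, hz0, hz, hzτ⟩ := d.exists_fixed_zero
    obtain ⟨z₀, hz₀⟩ := d.exists_half
    have hk0 : k ≠ 0 := fun e => by rw [e, map_zero] at hk1; exact zero_ne_one hk1
    set m := (k / α) ^ q ^ 3 with hm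
    have hm0 : m ≠ 0 := pow_ne_zero _ (div_ne_zero hk0 hα)
    set w : E × E := (z₀ * z / m ^ q ^ 3, m) with hw
    have hxw : φ ((α, 0) : E × E) w = k := by
      simp only [pf, hw, zero_mul, add_zero, hm, pow_q_pow_q hE]
      rw [mul_div_cancel₀ _ hα]
    have hww : φ w w = z := by
      simp only [pf, hw, div_pow, mul_pow, pow_q_pow_q hE, hz]
      field_simp
      linear_combination hz₀
    have cy := d.ctr_of_aniso hx₁ hctr₁ (z := w) (by rw [hww]; exact hz0) (by rw [hww]; exact hzτ)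
    have h00 : φ ((α, 0) : E × E) (α, 0) = 0 := by simp [pf, h0]
    have hval : φ ((α, 0) + c • w) ((α, 0) + c • w) = al c ^ q ^ 3 * al c * z := by
      rw [d.norm_add_smul, h00, hxw, hww, hk, d.alg_conj, eq_neg_of_add_eq_zero_right hc, map_neg]
      ring
    have cx := d.ctr_of_aniso hx₁ hctr₁ (z := (α, 0) + c • w) (by
      rw [hval]
      have : al c ≠ 0 := by rwa [Ne, map_eq_zero]
      exact mul_ne_zero (mul_ne_zero (pow_ne_zero _ this) this) hz0) (by
      rw [hval, d.alg_conj, ← map_mul, d.tau_mul, hzτ, mul_zero])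
    have := d.ctr_trans cx cy (c := -c) (by rw [neg_pow_q hF, ← neg_add, hc, neg_zero])
    rw [d.pf_add_left, d.hh_smul_left, hxw, hww, map_add, d.tau_mul, hk1, hzτ, mul_zero, add_zero, mul_one,
      neg_smul, add_neg_cancel_right] at this
    exact this
  · exact d.ctr_of_aniso hx₁ hctr₁ hxx hx

end H81.SU6.Ext
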