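import Cfsg.Agent.H81.SU6.Ext.Setting

/-!
# A totally isotropic space over the base field meets an isotropic line over the extension

Two quadrics in six variables over the field with `q` elements have a common non-trivial zero
(Chevalley-Warning).
-/

set_option autoImplicit false
set_option linter.unusedSectionVars false
set_option linter.style.haveILetI false

namespace H81.SU6.Ext

open H50

variable {F E : Type*} [Field F] [Fintype F] [Field E] [Fintype E] [Algebra F E] {q : ℕ}
variable {τ : E →ₗ[F] F} {Mf : ((E × E) →ₗ[F] (E × E)) → Prop} (d : XS q τ Mf)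
include d

local notation "φ" => pf q

theorem XS.exists_point (G : E →ₗ[F] E × E) (hG : ∀ a b, τ (φ (G a) (G b)) = 0) :
    ∃ c : E, c ≠ 0 ∧ φ (G c) (G c) = 0 := by
  classical
  have hF := d.cardF
  have hE := d.cardE
  haveI := d.finite_dim
  -- three fixed elements spanning the extension
  obtain ⟨z, hz⟩ := d.exists_half
  set S₁ : Submodule F E := F ∙ (1 : E) with hS₁
  have r₁ : Module.finrank F S₁ = 1 := finrank_span_singleton one_ne_zero
  obtain ⟨a₁, ha₁, ha₁S⟩ := d.exists_fixed_not_mem (S := S₁) fun e => by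
    rw [e, finrank_top, d.rank] at r₁; omega
  set S₂ : Submodule F E := Submodule.span F ({1, a₁} : Set E) with hS₂
  have r₂ : Module.finrank F S₂ ≤ 2 := by
    rw [hS₂]
    refine le_trans (finrank_span_le_card _) ?_
    simp only [Set.toFinset_insert, Set.toFinset_singleton]
    exact Finset.card_le_two
  have l₁₂ : S₁ < S₂ := lt_of_le_of_ne (Submodule.span_mono (by simp)) fun e =>
    ha₁S (e ▸ Submodule.subset_span (by simp))
  obtain ⟨a₂, ha₂, ha₂S⟩ := d.exists_fixed_not_mem (S := S₂) fun e => by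
    rw [e, finrank_top, d.rank] at r₂; omega
  set S₃ : Submodule F E := Submodule.span F ({1, a₁, a₂} : Set E) with hS₃
  have l₂₃ : S₂ < S₃ := by
    refine lt_of_le_of_ne (Submodule.span_mono ?_) fun e => ha₂S (e ▸ Submodule.subset_span (by simp))
    intro x hx
    simp only [Set.mem_insert_iff, Set.mem_singleton_iff] at hx ⊢
    rcases hx with h | h
    · exact Or.inl h
    · exact Or.inr (Or.inl h)
  have top₃ : S₃ = ⊤ := Submodule.eq_top_of_finrank_eq (by
    have h1 := Submodule.finrank_lt_finrank_of_lt l₁₂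
    have h2 := Submodule.finrank_lt_finrank_of_lt l₂₃
    have h3 := Submodule.finrank_le S₃
    rw [d.rank] at h3 ⊢
    omega)
  -- the field with q elements
  let K : Subfield F := RingHom.eqLocusField (conjHom hF) (RingHom.id F)
  have hKq : ∀ t : K, (t : F) ^ q = t := fun t => t.2
  have hcK : Nat.card K = q := by
    rw [← card_fixed hF]
    exact Nat.card_congr (Equiv.subtypeEquivRight fun t => Iff.rfl)
  haveI : Fintype K := Fintype.ofFinite _
  haveI : FiniteDimensional K E := Module.Finite.of_finite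
  have h6 : Module.finrank K E = 6 := by
    have h := Module.card_eq_pow_finrank (K := K) (V := E)
    rw [← Nat.card_eq_fintype_card (α := K), hcK, hE, ← pow_mul] at h
    exact (Nat.pow_right_injective (two_le hF) h).symm
  let bs : Module.Basis (Fin 6) K E := Module.finBasisOfFinrankEq K E h6
  have hsm : ∀ (t : K) (y : E), t • y = algebraMap F E t * y := fun t y => Algebra.smul_def (t : F) y
  have hal : ∀ t : K, algebraMap F E t ^ q ^ 3 = algebraMap F E t := fun t => by rw [d.alg_conj, hKq]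
  -- quadratic forms
  have hval : ∀ a : E, a ^ q ^ 3 = a → ∀ y : E,
      τ (a * (z * y + (z * y) ^ q ^ 3)) ^ q = τ (a * (z * y + (z * y) ^ q ^ 3)) := fun a ha y => by
    rw [← d.tau_conj, mul_pow, ha, add_pow_q hE, pow_q_pow_q hE, add_comm]
  let lam : (a : E) → a ^ q ^ 3 = a → E →ₗ[K] K := fun a ha =>
    { toFun := fun y => ⟨τ (a * (z * y + (z * y) ^ q ^ 3)), hval a ha y⟩
      map_add' := fun y y' => Subtype.ext (by
        show τ _ = τ _ + τ _
        rw [← map_add, mul_add z, add_pow_q hE]; congr 1; ring)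
      map_smul' := fun t y => Subtype.ext (by
        show τ _ = (t : F) * τ _
        rw [← d.tau_mul, hsm, mul_left_comm z, mul_pow, hal]; congr 1; ring) }
  have hlam : ∀ a ha y, ((lam a ha y : K) : F) = τ (a * (z * y + (z * y) ^ q ^ 3)) := fun a ha y => rfl
  let P : (a : E) → a ^ q ^ 3 = a → MvPolynomial (Fin 6) K := fun a ha =>
    ∑ i, ∑ j, MvPolynomial.C (lam a ha (φ (G (bs i)) (G (bs j)))) * MvPolynomial.X i * MvPolynomial.X j
  have hdeg : ∀ a ha, (P a ha).totalDegree ≤ 2 := fun a ha => by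
    refine MvPolynomial.IsHomogeneous.totalDegree_le ?_
    refine MvPolynomial.IsHomogeneous.sum _ _ _ fun i _ => MvPolynomial.IsHomogeneous.sum _ _ _ fun j _ => ?_
    exact ((MvPolynomial.isHomogeneous_C _ _).mul (MvPolynomial.isHomogeneous_X _ i)).mul
      (MvPolynomial.isHomogeneous_X _ j)
  have hsum : ∀ x : Fin 6 → K, ∑ i, ∑ j, (x i * x j) • φ (G (bs i)) (G (bs j)) =
      φ (G (∑ i, x i • bs i)) (G (∑ i, x i • bs i)) := by
    intro x
    have l : ∀ (f : Fin 6 → E × E) y, φ (∑ i, f i) y = ∑ i, φ (f i) y := fun f y =>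
      map_sum (AddMonoidHom.mk' (fun u => φ u y) fun u u' => d.pf_add_left u u' y) f _
    have r : ∀ (f : Fin 6 → E × E) y, φ y (∑ i, f i) = ∑ i, φ y (f i) := fun f y =>
      map_sum (AddMonoidHom.mk' (fun u => φ y u) fun u u' => d.pf_add_right y u u') f _
    have e : G (∑ i, x i • bs i) = ∑ i, (x i : F) • G (bs i) := by
      rw [map_sum]
      exact Finset.sum_congr rfl fun i _ => G.map_smul ((x i : K) : F) (bs i)
    rw [e, l]
    refine Finset.sum_congr rfl fun i _ => ?_
    rw [r]
    refine Finset.sum_congr rfl fun j _ => ?_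
    rw [d.hh_smul_left, d.hh_smul_right, hal, hsm, ← mul_assoc]
    congr 1
    push_cast
    rfl
  have heval : ∀ a ha (x : Fin 6 → K), MvPolynomial.eval x (P a ha) =
      lam a ha (φ (G (∑ i, x i • bs i)) (G (∑ i, x i • bs i))) := fun a ha x => by
    rw [← hsum]
    simp only [P, map_sum, map_smul, MvPolynomial.eval_mul, MvPolynomial.eval_C, MvPolynomial.eval_X,
      smul_eq_mul]
    exact Finset.sum_congr rfl fun i _ => Finset.sum_congr rfl fun j _ => by ring
  obtain ⟨p, f, hp, -, hc, -⟩ := exists_prime_pow hF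
  haveI := hc
  haveI : CharP K p := K.subtype.charP Subtype.val_injective p
  have hdvd := char_dvd_card_solutions_of_add_lt p (f₁ := P a₁ ha₁) (f₂ := P a₂ ha₂)
    (by have := hdeg a₁ ha₁; have := hdeg a₂ ha₂; rw [Fintype.card_fin]; omega)
  obtain ⟨x, ⟨hx₁, hx₂⟩, hx0⟩ : ∃ x : Fin 6 → K,
      (MvPolynomial.eval x (P a₁ ha₁) = 0 ∧ MvPolynomial.eval x (P a₂ ha₂) = 0) ∧ x ≠ 0 := by
    by_contra hcon
    simp only [not_exists, not_and, not_not] at hcon
    have h1 : Fintype.card {x : Fin 6 → K //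
        MvPolynomial.eval x (P a₁ ha₁) = 0 ∧ MvPolynomial.eval x (P a₂ ha₂) = 0} = 1 :=
      Fintype.card_eq_one_iff.2 ⟨⟨0, by simp [P], by simp [P]⟩,
        fun y => Subtype.ext (hcon y.1 ⟨y.2.1, y.2.2⟩)⟩
    rw [h1] at hdvd
    exact hp.ne_one (Nat.dvd_one.1 hdvd)
  refine ⟨∑ i, x i • bs i, fun e => hx0 ?_, ?_⟩
  · funext i
    exact Fintype.linearIndependent_iff.1 bs.linearIndependent x e i
  rw [heval a₁ ha₁] at hx₁
  rw [heval a₂ ha₂] at hx₂
  set c := ∑ i, x i • bs i
  set y := φ (G c) (G c) with hy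
  have hyq : y ^ q ^ 3 = y := d.pf_self_fixed _
  have hτy : τ y = 0 := hG c c
  have hzy : z * y + (z * y) ^ q ^ 3 = y := by rw [mul_pow, hyq, ← add_mul, hz, one_mul]
  have e₁ : τ (a₁ * y) = 0 := by rw [← hzy, ← hlam a₁ ha₁ y, hx₁]; rfl
  have e₂ : τ (a₂ * y) = 0 := by rw [← hzy, ← hlam a₂ ha₂ y, hx₂]; rfl
  have hle : S₃ ≤ LinearMap.ker (τ ∘ₗ LinearMap.mulRight F y) := Submodule.span_le.2 fun u hu => by
    show τ (u * y) = 0
    rcases hu with h | h | h
    · rw [h, one_mul, hτy]
    · rw [h, e₁]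
    · rw [Set.mem_singleton_iff.1 h, e₂]
  refine d.tau_ext fun u => ?_
  rw [mul_zero, map_zero]
  exact hle (top₃.ge (Submodule.mem_top (x := u)))

end H81.SU6.Ext
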