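import Cfsg.Agent.H50.Field

/-!
# Overgroups of a two-dimensional unitary group over a cubic extension: the setting

The plane `E × E` carries the hyperbolic hermitian form `φ`; composing with the trace gives the unitary
form on a six-dimensional space over `F`.
-/

set_option autoImplicit false
set_option linter.unusedSectionVars false
set_option linter.style.haveILetI false

namespace H81.SU6.Ext

open H50

variable {F E : Type*} [Field F] [Fintype F] [Field E] [Fintype E] [Algebra F E] {q : ℕ}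

/-- The hyperbolic hermitian form on the plane. -/
def pf (q : ℕ) (x y : E × E) : E := x.1 * y.2 ^ q ^ 3 + x.2 * y.1 ^ q ^ 3

local notation "φ" => pf q

/-- The maps in an overgroup of the normaliser of the extension field. -/
structure XS (q : ℕ) (τ : E →ₗ[F] F) (Mf : ((E × E) →ₗ[F] (E × E)) → Prop) : Prop where
  cardF : Fintype.card F = q ^ 2
  cardE : Fintype.card E = (q ^ 3) ^ 2
  rank : Module.finrank F E = 3
  tr : ∀ x, algebraMap F E (τ x) = x + x ^ q ^ 2 + x ^ q ^ 4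
  nz : τ ≠ 0
  three : 3 ≤ q
  mul : ∀ {f g}, Mf f → Mf g → Mf (f ∘ₗ g)
  inv : ∀ {f}, Mf f → ∃ g, Mf g ∧ g ∘ₗ f = LinearMap.id ∧ f ∘ₗ g = LinearMap.id
  iso : ∀ {f}, Mf f → ∀ x y, τ (pf q (f x) (f y)) = τ (pf q x y)
  lin : ∀ p r u s : E, p ^ q ^ 3 = p → s ^ q ^ 3 = s → r + r ^ q ^ 3 = 0 → u + u ^ q ^ 3 = 0 → p * s - r * u = 1 →
    ∃ f, Mf f ∧ ∀ x : E × E, f x = (p * x.1 + r * x.2, u * x.1 + s * x.2)
  dia : ∀ y : E, y ≠ 0 → ∃ f, Mf f ∧
    ∀ x : E × E, f x = (y ^ (q + 1) * x.1, ((y ^ (q + 1)) ^ q ^ 3)⁻¹ * x.2)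

variable {τ : E →ₗ[F] F} {Mf : ((E × E) →ₗ[F] (E × E)) → Prop} (d : XS q τ Mf)
include d

theorem XS.pf_add_left (x y z : E × E) : φ (x + y) z = φ x z + φ y z := by
  simp only [pf, Prod.fst_add, Prod.snd_add]; ring

theorem XS.pf_add_right (x y z : E × E) : φ x (y + z) = φ x y + φ x z := by
  simp only [pf, Prod.fst_add, Prod.snd_add, add_pow_q d.cardE]; ring

theorem XS.pf_sub_left (x y z : E × E) : φ (x - y) z = φ x z - φ y z := by
  simp only [pf, Prod.fst_sub, Prod.snd_sub]; ring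

theorem XS.pf_smul_left (a : E) (x y : E × E) : φ (a • x) y = a * φ x y := by
  simp only [pf, Prod.smul_fst, Prod.smul_snd, smul_eq_mul]; ring

theorem XS.pf_smul_right (a : E) (x y : E × E) : φ x (a • y) = a ^ q ^ 3 * φ x y := by
  simp only [pf, Prod.smul_fst, Prod.smul_snd, smul_eq_mul, mul_pow]; ring

theorem XS.hh_smul_left (t : F) (x y : E × E) : φ (t • x) y = algebraMap F E t * φ x y := by
  rw [← algebraMap_smul E t x, d.pf_smul_left]

theorem XS.hh_smul_right (t : F) (x y : E × E) : φ x (t • y) = algebraMap F E t ^ q ^ 3 * φ x y := by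
  rw [← algebraMap_smul E t y, d.pf_smul_right]

theorem XS.pf_symm (x y : E × E) : φ y x = φ x y ^ q ^ 3 := by
  simp only [pf, add_pow_q d.cardE, mul_pow, pow_q_pow_q d.cardE]; ring

theorem XS.pf_self_fixed (x : E × E) : φ x x ^ q ^ 3 = φ x x := (d.pf_symm x x).symm

theorem XS.tau_mul (t : F) (x : E) : τ (algebraMap F E t * x) = t * τ x := by
  rw [← Algebra.smul_def, map_smul, smul_eq_mul]

theorem XS.tau_mul' (x : E) (t : F) : τ (x * algebraMap F E t) = τ x * t := by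
  rw [mul_comm, d.tau_mul, mul_comm]

theorem XS.tau_conj (x : E) : τ (x ^ q ^ 3) = τ x ^ q := by
  obtain ⟨p, f, hp, -, hc, hqp⟩ := H50.exists_prime_pow d.cardF
  haveI : Fact p.Prime := ⟨hp⟩
  haveI : CharP F p := hc
  haveI : CharP E p := charP_of_injective_algebraMap (algebraMap F E).injective p
  haveI : ExpChar E p := ExpChar.prime hp
  apply (algebraMap F E).injective
  rw [d.tr, map_pow (algebraMap F E) (τ x), d.tr]
  have hadd : ∀ a b : E, (a + b) ^ q = a ^ q + b ^ q := fun a b => by rw [hqp]; exact add_pow_char_pow a b p f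
  have h7 : x ^ (q ^ 7) = x ^ q := by
    rw [show q ^ 7 = (q ^ 3) ^ 2 * q by ring, pow_mul, ← d.cardE, FiniteField.pow_card]
  rw [hadd, hadd, ← pow_mul, ← pow_mul, ← pow_mul, ← pow_mul]
  simp only [← pow_add, ← pow_succ]
  rw [h7]
  ring_nf

theorem XS.alg_conj (t : F) : algebraMap F E t ^ (q ^ 3) = algebraMap F E (t ^ q) := by
  rw [← map_pow, show q ^ 3 = q ^ 2 * q by ring, pow_mul, ← d.cardF, FiniteField.pow_card]

theorem XS.tau_ext {a b : E} (h : ∀ c, τ (c * a) = τ (c * b)) : a = b := by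
  by_contra hne
  refine d.nz (LinearMap.ext fun e => ?_)
  have h1 := h (e / (a - b))
  rw [LinearMap.zero_apply, ← div_mul_cancel₀ e (sub_ne_zero.2 hne), mul_sub, map_sub, h1, sub_self]

theorem XS.finite_dim : FiniteDimensional F E := Module.finite_of_finrank_eq_succ d.rank

theorem XS.dual (f : E →ₗ[F] F) : ∃ a : E, ∀ c, τ (c * a) = f c := by
  let T : E →ₗ[F] Module.Dual F E := (LinearMap.mul F E).compr₂ τ
  have hT : Function.Injective T := fun a b e => d.tau_ext fun c => by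
    rw [mul_comm c a, mul_comm c b]; exact LinearMap.congr_fun e c
  haveI := d.finite_dim
  obtain ⟨a, ha⟩ := (LinearMap.injective_iff_surjective_of_finrank_eq_finrank
    Subspace.dual_finrank_eq.symm).1 hT f
  exact ⟨a, fun c => by rw [mul_comm]; exact LinearMap.congr_fun ha c⟩

/-- The fixed field spans over the base field. -/
theorem XS.fixed_decomp (x : E) : ∃ (t : F) (a b : E), a ^ q ^ 3 = a ∧ b ^ q ^ 3 = b ∧ x = a + algebraMap F E t * b := by
  have hE := d.cardE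
  obtain ⟨t, ht⟩ : ∃ t : F, t ^ q ≠ t := by
    by_contra hcon
    simp only [not_exists, not_not] at hcon
    have h := card_fixed d.cardF
    rw [Nat.card_congr (Equiv.subtypeUnivEquiv hcon), Nat.card_eq_fintype_card, d.cardF] at h
    have := d.three
    nlinarith
  have ht' : algebraMap F E t - algebraMap F E t ^ q ^ 3 ≠ 0 := by
    rw [d.alg_conj, ← map_sub]
    exact fun e => ht (sub_eq_zero.1 ((map_eq_zero _).1 e)).symm
  have htt : (algebraMap F E t ^ q ^ 3) ^ q ^ 3 = algebraMap F E t := pow_q_pow_q hE _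
  set T := algebraMap F E t with hT
  set b := (x - x ^ q ^ 3) / (T - T ^ q ^ 3) with hb
  have hbb : b * (T - T ^ q ^ 3) = x - x ^ q ^ 3 := div_mul_cancel₀ _ ht'
  have hbq : b ^ q ^ 3 = b := by
    rw [hb, div_pow, sub_pow_q hE, sub_pow_q hE, htt, pow_q_pow_q hE, ← neg_sub x, ← neg_sub T, neg_div_neg_eq]
  refine ⟨t, x - T * b, b, ?_, hbq, by rw [← hT]; ring⟩
  rw [sub_pow_q hE, mul_pow, hbq]
  linear_combination hbb

theorem XS.fixed_span (S : Submodule F E) (h : ∀ a : E, a ^ q ^ 3 = a → a ∈ S) : S = ⊤ := by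
  refine Submodule.eq_top_iff'.2 fun x => ?_
  obtain ⟨t, a, b, ha, hb, rfl⟩ := d.fixed_decomp x
  rw [← Algebra.smul_def]
  exact S.add_mem (h a ha) (S.smul_mem t (h b hb))

theorem XS.exists_fixed_not_mem {S : Submodule F E} (hS : S ≠ ⊤) : ∃ a : E, a ^ q ^ 3 = a ∧ a ∉ S := by
  by_contra hcon
  simp only [not_exists, not_and, not_not] at hcon
  exact hS (d.fixed_span S hcon)

theorem XS.exists_half : ∃ z : E, z + z ^ q ^ 3 = 1 := exists_trace_eq d.cardE (one_pow _)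

theorem XS.exists_tau_eq (t : F) : ∃ e, τ e = t := by
  obtain ⟨e, he⟩ : ∃ e, τ e ≠ 0 := by
    by_contra h
    simp only [not_exists, not_not] at h
    exact d.nz (LinearMap.ext h)
  exact ⟨(t / τ e) • e, by rw [map_smul, smul_eq_mul, div_mul_cancel₀ _ he]⟩

/-- An element of the fixed field with trace one. -/
theorem XS.exists_fixed_one : ∃ z : E, z ^ q ^ 3 = z ∧ τ z = 1 := by
  obtain ⟨u, hu⟩ := exists_trace_eq d.cardF (one_pow q)
  obtain ⟨e, he⟩ := d.exists_tau_eq u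
  refine ⟨e + e ^ q ^ 3, ?_, ?_⟩
  · rw [add_pow_q d.cardE, pow_q_pow_q d.cardE, add_comm]
  · rw [map_add, d.tau_conj, he, hu]

/-- A non-zero element of the fixed field with trace zero. -/
theorem XS.exists_fixed_zero : ∃ z : E, z ≠ 0 ∧ z ^ q ^ 3 = z ∧ τ z = 0 := by
  obtain ⟨k, hk, hk1⟩ := d.exists_fixed_one
  have hne : F ∙ k ≠ ⊤ := fun e => by
    have h := finrank_span_singleton (K := F) (v := k) fun e0 => by rw [e0, map_zero] at hk1; exact zero_ne_one hk1
    rw [e, finrank_top, d.rank] at h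
    omega
  obtain ⟨a, ha, hak⟩ := d.exists_fixed_not_mem hne
  refine ⟨a - τ a • k, fun e => hak ?_, ?_, by rw [map_sub, map_smul, hk1, smul_eq_mul, mul_one, sub_self]⟩
  · rw [sub_eq_zero.1 e]
    exact Submodule.smul_mem _ _ (Submodule.mem_span_singleton_self k)
  · rw [Algebra.smul_def, sub_pow_q d.cardE, mul_pow, ha, hk, d.alg_conj, ← d.tau_conj, ha]

/-- A skew element with prescribed trace pairing against a non-zero norm. -/
theorem XS.exists_skew_pairing {θ : E} (hθ : θ ≠ 0) :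
    ∃ k : E, k + k ^ q ^ 3 = 0 ∧ τ (k * (θ * θ ^ q ^ 3)) ≠ 0 := by
  obtain ⟨ε, hε0, hε⟩ := exists_trace_zero_ne_zero d.cardF
  obtain ⟨z, hz, hz1⟩ := d.exists_fixed_one
  have hn : θ * θ ^ q ^ 3 ≠ 0 := mul_ne_zero hθ (pow_ne_zero _ hθ)
  refine ⟨algebraMap F E ε * (z / (θ * θ ^ q ^ 3)), ?_, ?_⟩
  · rw [mul_pow, d.alg_conj, eq_neg_of_add_eq_zero_right hε, div_pow, hz, mul_pow, pow_q_pow_q d.cardE,
      mul_comm (θ ^ q ^ 3), map_neg]
    ring
  · rw [mul_assoc, div_mul_cancel₀ _ hn, d.tau_mul, hz1, mul_one]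
    exact hε0

theorem XS.one : Mf LinearMap.id := by
  obtain ⟨f, hf, hfx⟩ := d.lin 1 0 0 1 (one_pow _) (one_pow _) (by simp [zero_pow (q_ne_zero d.cardE)])
    (by simp [zero_pow (q_ne_zero d.cardE)]) (by ring)
  rwa [show f = LinearMap.id from LinearMap.ext fun x => by rw [hfx]; simp] at hf

/-- A unitary transvection over the extension. -/
theorem XS.etv {v : E × E} (hv : φ v v = 0) {k : E} (hk : k + k ^ q ^ 3 = 0) :
    ∃ f, Mf f ∧ ∀ x, f x = x + (k * φ x v) • v := by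
  have hE := d.cardE
  have hk' : k ^ q ^ 3 = -k := eq_neg_of_add_eq_zero_right hk
  have hv' : v.1 * v.2 ^ q ^ 3 + v.2 * v.1 ^ q ^ 3 = 0 := hv
  have hp : (1 + k * v.1 * v.2 ^ q ^ 3) ^ q ^ 3 = 1 + k * v.1 * v.2 ^ q ^ 3 := by
    rw [add_pow_q hE, one_pow, mul_pow, mul_pow, pow_q_pow_q hE, hk']
    linear_combination -k * hv'
  have hs : (1 + k * v.2 * v.1 ^ q ^ 3) ^ q ^ 3 = 1 + k * v.2 * v.1 ^ q ^ 3 := by
    rw [add_pow_q hE, one_pow, mul_pow, mul_pow, pow_q_pow_q hE, hk']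
    linear_combination -k * hv'
  have hr : k * v.1 * v.1 ^ q ^ 3 + (k * v.1 * v.1 ^ q ^ 3) ^ q ^ 3 = 0 := by
    rw [mul_pow, mul_pow, pow_q_pow_q hE, hk']; ring
  have hu : k * v.2 * v.2 ^ q ^ 3 + (k * v.2 * v.2 ^ q ^ 3) ^ q ^ 3 = 0 := by
    rw [mul_pow, mul_pow, pow_q_pow_q hE, hk']; ring
  obtain ⟨f, hf, hfx⟩ := d.lin _ _ _ _ hp hs hr hu (by linear_combination k * hv')
  refine ⟨f, hf, fun x => ?_⟩
  rw [hfx]
  simp only [pf, Prod.ext_iff, Prod.fst_add, Prod.snd_add, Prod.smul_fst, Prod.smul_snd, smul_eq_mul]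
  constructor <;> ring

/-- All transvections over the base field centred at `x` are present. -/
def Ctr (q : ℕ) (τ : E →ₗ[F] F) (Mf : ((E × E) →ₗ[F] (E × E)) → Prop) (x : E × E) : Prop :=
  τ (pf q x x) = 0 ∧ ∀ c : F, c + c ^ q = 0 →
    ∃ f, Mf f ∧ ∀ y, f y = y + (c * τ (pf q y x)) • x

theorem XS.ctr_mv {f : (E × E) →ₗ[F] (E × E)} (hf : Mf f) {x : E × E} (hx : Ctr q τ Mf x) :
    Ctr q τ Mf (f x) := by
  obtain ⟨f', hf', h1, h2⟩ := d.inv hf
  refine ⟨by rw [d.iso hf]; exact hx.1, fun c hc => ?_⟩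
  obtain ⟨t, ht, htx⟩ := hx.2 c hc
  refine ⟨f ∘ₗ t ∘ₗ f', d.mul hf (d.mul ht hf'), fun y => ?_⟩
  have hy : f (f' y) = y := LinearMap.congr_fun h2 y
  rw [LinearMap.comp_apply, LinearMap.comp_apply, htx, map_add, map_smul, hy, ← d.iso hf, hy]

/-- An isotropic vector is orthogonal only to its own line. -/
theorem XS.mem_line {w : E × E} (hw : φ w w = 0) (hw0 : w ≠ 0) {x : E × E} (hx : φ x w = 0) : ∃ a : E, x = a • w := by
  have hE := d.cardE
  have hw' : w.1 * w.2 ^ q ^ 3 + w.2 * w.1 ^ q ^ 3 = 0 := hw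
  have hx' : x.1 * w.2 ^ q ^ 3 + x.2 * w.1 ^ q ^ 3 = 0 := hx
  by_cases h1 : w.1 = 0
  · have h2 : w.2 ≠ 0 := fun e => hw0 (Prod.ext h1 e)
    rw [h1, zero_pow (q_ne_zero hE), mul_zero, add_zero] at hx'
    refine ⟨x.2 / w.2, Prod.ext ?_ ?_⟩
    · rw [Prod.smul_fst, smul_eq_mul, h1, mul_zero, (mul_eq_zero.1 hx').resolve_right (pow_ne_zero _ h2)]
    · rw [Prod.smul_snd, smul_eq_mul, div_mul_cancel₀ _ h2]
  · refine ⟨x.1 / w.1, Prod.ext ?_ ?_⟩
    · rw [Prod.smul_fst, smul_eq_mul, div_mul_cancel₀ _ h1]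
    · have : w.1 ^ q ^ 3 * (x.2 * w.1 - x.1 * w.2) = 0 := by linear_combination w.1 * hx' - x.1 * hw'
      have h3 := (mul_eq_zero.1 this).resolve_left (pow_ne_zero _ h1)
      rw [Prod.smul_snd, smul_eq_mul, div_mul_eq_mul_div, eq_div_iff h1]
      linear_combination h3

end H81.SU6.Ext
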